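import Groth.Agent.ThickInv.Alg
import Groth.Agent.S0004
import Groth.Agent.W7Adic.Ample
import Groth.Agent.W7Alg.Clopen
import Groth.Agent.W7Cube.Pic
import Groth.Agent.PicBdd.InvLocus
import Groth.Agent.CMFlat.RegImm
import Groth.Agent.CurveRR.Deg
import Groth.Agent.ThickPic.Formal
import Groth.Agent.RegDual.Scheme
import Groth.Agent.ParaFLib.Ext
import Groth.Agent.W7Exist.Induct

/-!
# Algebraization of systems of invertible modules on the thickenings of a proper scheme
-/

set_option autoImplicit false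
set_option backward.isDefEq.respectTransparency false
set_option backward.isDefEq.respectTransparency.types false
set_option linter.style.haveILetI false
set_option maxHeartbeats 1000000

universe u

open CategoryTheory CategoryTheory.Limits AlgebraicGeometry TopologicalSpace Opposite
open Groth.Agent.W7Exist

noncomputable section

namespace Groth.Agent.ThickInv

variable {A : Type u} [CommRing A] {I : Ideal A} {X : Scheme.{u}} (f : X ⟶ Spec (CommRingCat.of A))

theorem isClosedImmersion_thickι (n : ℕ) : IsClosedImmersion (CohB1.thickι f I n) := by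
  haveI : IsClosedImmersion (CohB1.specQuot I n) := IsClosedImmersion.spec_of_surjective _ Ideal.Quotient.mk_surjective
  exact MorphismProperty.pullback_fst _ _ inferInstance

variable [IsNoetherianRing A] [IsProper f]

/-- a module invertible on all thickenings is free of rank one along them -/
theorem free1_of_thick {M : X.Modules} (hM : Coh.IsCoh M)
    (h : ∀ n, PicF.IsInvertible ((Scheme.Modules.pullback (CohB1.thickι f I n)).obj M))
    (x : X) (hx : ∀ a ∈ I, f.base x ∉ PrimeSpectrum.basicOpen a) : PicBdd.Free1 M x := by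
  letI : X.Over (Spec (CommRingCat.of A)) := ⟨f⟩
  haveI : IsLocallyNoetherian X := LocallyOfFiniteType.isLocallyNoetherian f
  haveI : IsNoetherianRing (X.presheaf.stalk x) := by infer_instance
  haveI : Module.Finite (X.presheaf.stalk x) (M.presheaf.stalk x) := RegDual.finite_stalk hM x
  obtain ⟨U, hU, hxU⟩ := Groth.Agent.QC.exists_affine_mem x
  let J : Ideal (X.presheaf.stalk x) := (I.map (W7Cech.secRing A U)).map (X.presheaf.germ U x hxU).hom
  have hJ : J ≤ IsLocalRing.maximalIdeal (X.presheaf.stalk x) := by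
    rw [Ideal.map_le_iff_le_comap, Ideal.map_le_iff_le_comap]
    intro a ha
    exact ThickPic.map_le_comap_maximal hxU hx (Ideal.mem_map_of_mem _ ha)
  refine ThickInv.exists_equiv (N := M.presheaf.stalk x) J hJ fun n => ?_
  haveI := isClosedImmersion_thickι (I := I) f n
  obtain ⟨z, hz⟩ : x ∈ Set.range (CohB1.thickι f I n).base := by rw [W7Alg.range_thickι]; exact hx
  subst hz
  obtain ⟨e⟩ := PicBdd.free1_of_isInvertible (h n) z
  let i := CohB1.thickι f I n
  let e1 := ((KFlat.pullStalkIso i z).app M).toLinearEquiv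
  letI : Algebra (X.presheaf.stalk (i.base z)) ((CohB1.thick f I n).presheaf.stalk z) := (i.stalkMap z).hom.toAlgebra
  refine ⟨(CohB1.thick f I n).presheaf.stalk z, inferInstance, (i.stalkMap z).hom.toAlgebra, i.stalkMap_surjective z,
    ?_, ⟨e1.symm.trans e⟩⟩
  rw [RingHom.algebraMap_toAlgebra, CMFlat.ker_stalkMap_eq i z ⟨U, hU⟩ hxU, ← Ideal.map_pow]
  refine congrArg (Ideal.map _) ?_
  rw [← W7Alg.ker_thickι I f n ⟨U, hU⟩, Scheme.Hom.ker_apply]

variable [IsAdicComplete I A]

/-- a module invertible on all thickenings is invertible -/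
theorem isInvertible_of_thick {M : X.Modules} (hM : Coh.IsCoh M)
    (h : ∀ n, PicF.IsInvertible ((Scheme.Modules.pullback (CohB1.thickι f I n)).obj M)) : PicF.IsInvertible M := by
  haveI : IsLocallyNoetherian X := LocallyOfFiniteType.isLocallyNoetherian f
  have hall : ∀ x : X, PicBdd.Free1 M x := by
    by_contra hne
    rw [not_forall] at hne
    obtain ⟨x, hx⟩ := hne
    have hcl : IsClosed (f.base '' {x | PicBdd.Free1 M x}ᶜ) :=
      f.isClosedMap _ (PicBdd.isOpen_free1 hM).isClosed_compl
    obtain ⟨K, hK⟩ := (PrimeSpectrum.isClosed_iff_zeroLocus_ideal _).1 hcl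
    have hfx : (f x : PrimeSpectrum A) ∈ PrimeSpectrum.zeroLocus (K : Set A) := by rw [← hK]; exact ⟨x, hx, rfl⟩
    obtain ⟨m, hm, hKm⟩ := Ideal.exists_le_maximal _ (f x : PrimeSpectrum A).isPrime.ne_top
    have hmK : (⟨m, hm.isPrime⟩ : PrimeSpectrum A) ∈ PrimeSpectrum.zeroLocus (K : Set A) := fun a ha => hKm (hfx ha)
    rw [← hK] at hmK
    obtain ⟨z, hz, hzm⟩ := hmK
    refine hz (free1_of_thick f hM h z fun a ha => ?_)
    have hIm : I ≤ m := (IsAdicComplete.le_jacobson_bot I).trans fun a ha => Ideal.mem_sInf.mp ha ⟨bot_le, hm⟩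
    rw [PrimeSpectrum.mem_basicOpen, not_not]
    change a ∈ (f.base z : PrimeSpectrum A).asIdeal
    rw [hzm]
    exact hIm ha
  exact RefStalk.isInvertible_of_stalk_equiv hM.1 hM.2 hall

/-- **compatible invertible modules on the thickenings of a proper scheme algebraize** -/
theorem exists_algebraization (L : ∀ n, (CohB1.thick f I n).Modules) (hL : ∀ n, PicF.IsInvertible (L n))
    (hLt : ∀ n, Nonempty ((Scheme.Modules.pullback (CohB1.thickTrans f I n)).obj (L (n + 1)) ≅ L n)) :
    ∃ M : X.Modules, PicF.IsInvertible M ∧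
      ∀ n, Nonempty ((Scheme.Modules.pullback (CohB1.thickι f I n)).obj M ≅ L n) := by
  letI : X.Over (Spec (CommRingCat.of A)) := ⟨f⟩
  haveI : IsProper (X ↘ Spec (CommRingCat.of A)) := ‹IsProper f›
  haveI : IsLocallyNoetherian X := LocallyOfFiniteType.isLocallyNoetherian f
  haveI := fun n => isClosedImmersion_thickι (I := I) f n
  haveI : ∀ n, IsLocallyNoetherian (CohB1.thick f I n) := fun n =>
    LocallyOfFiniteType.isLocallyNoetherian (CohB1.thickι f I n)
  let Q : ℕ → X.Modules := fun n => (Scheme.Modules.pushforward (CohB1.thickι f I n)).obj (L n)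
  have hQ : ∀ n, Coh.IsCoh (Q n) := fun n => W7Exist.isCoh_push_proper (CohB1.thickι f I n) (CurveRR.isCoh_of_inv (hL n))
  have hfix : ∀ n (N : X.Modules), Coh.IsCoh N →
      Nonempty ((Scheme.Modules.pullback (CohB1.thickι f I n)).obj (Formal.modPow I (n + 1) N) ≅
        (Scheme.Modules.pullback (CohB1.thickι f I n)).obj N) := fun n N hN => by
    obtain ⟨e⟩ := W7Adic.nonempty_modPow_thick I f n hN
    haveI := GrothSS.isIso_counit_push (CohB1.thickι f I n)
    exact ⟨(Scheme.Modules.pullback _).mapIso e ≪≫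
      (asIso (Scheme.Modules.pullbackPushforwardAdjunction (CohB1.thickι f I n)).counit).app _⟩
  have hstep : ∀ n, Nonempty (Formal.modPow I (n + 1) (Q (n + 1)) ≅ Q n) := fun n => by
    obtain ⟨e⟩ := W7Adic.nonempty_modPow_thick I f n (hQ (n + 1))
    obtain ⟨ψ⟩ := hLt n
    haveI := GrothSS.isIso_counit_push (CohB1.thickι f I (n + 1))
    let a : (Scheme.Modules.pullback (CohB1.thickι f I n)).obj (Q (n + 1)) ≅ L n :=
      eqToIso (congrArg (fun g => (Scheme.Modules.pullback g).obj (Q (n + 1))) (W7Alg.thickTrans_fst I f n).symm) ≪≫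
        ((Scheme.Modules.pullbackComp (CohB1.thickTrans f I n) (CohB1.thickι f I (n + 1))).app _).symm ≪≫
        (Scheme.Modules.pullback (CohB1.thickTrans f I n)).mapIso
          ((asIso (Scheme.Modules.pullbackPushforwardAdjunction (CohB1.thickι f I (n + 1))).counit).app (L (n + 1))) ≪≫ ψ
    exact ⟨e ≪≫ (Scheme.Modules.pushforward _).mapIso a⟩
  let v := fun n => (hstep n).some
  let t : ∀ n, Q (n + 1) ⟶ Q n := fun n => Formal.modPowπ I (n + 1) (Q (n + 1)) ≫ (v n).hom
  have hk : ∀ n, Formal.KilledBy (I ^ (n + 1)) (Q n) := fun n a ha => by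
    rw [← cancel_epi (v n).hom, ← W7Cech.smulMod_natural, π_smulMod I (n + 1) _ a ha, zero_comp, comp_zero]
  have hG := W7Exist.isCohFormal_of I Q t hQ hk (fun n => inferInstanceAs (Epi (_ ≫ _)))
    (fun n => ⟨(v n).inv, (Category.assoc _ _ _).trans
      ((congrArg (Formal.modPowπ I (n + 1) (Q (n + 1)) ≫ ·) (v n).hom_inv_id).trans (Category.comp_id _))⟩)
  obtain ⟨M, hM, ⟨e⟩⟩ := (S0004.result A I X).2 _ hG
  have hMn : ∀ n, Nonempty ((Scheme.Modules.pullback (CohB1.thickι f I n)).obj M ≅ L n) := fun n => by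
    obtain ⟨a⟩ := hfix n M hM
    haveI := GrothSS.isIso_counit_push (CohB1.thickι f I n)
    exact ⟨a.symm ≪≫ (Scheme.Modules.pullback _).mapIso (show Formal.modPow I (n + 1) M ≅ Q n from e.app (op n)) ≪≫
      (asIso (Scheme.Modules.pullbackPushforwardAdjunction (CohB1.thickι f I n)).counit).app (L n)⟩
  exact ⟨M, isInvertible_of_thick f hM fun n =>
    ParaFLib.isInvertible_of_iso (hMn n).some.symm (hL n), hMn⟩

end Groth.Agent.ThickInv
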