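import Mathlib.RingTheory.TensorProduct.Quotient
import Mathlib.LinearAlgebra.TensorProduct.RightExactness
import Mathlib.RingTheory.Filtration
import Mathlib.RingTheory.Nakayama
import Mathlib.RingTheory.OrzechProperty
import Mathlib.LinearAlgebra.TensorProduct.Quotient

/-!
# Modules that are free of rank one modulo all powers of an ideal
-/

set_option autoImplicit false
set_option backward.isDefEq.respectTransparency false

universe u

open TensorProduct

noncomputable section

namespace Groth.Agent.ThickInv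

variable {R : Type u} [CommRing R] [IsLocalRing R] [IsNoetherianRing R] {N : Type u} [AddCommGroup N] [Module R N]
  [Module.Finite R N]

omit [IsLocalRing R] [IsNoetherianRing R] [Module.Finite R N] in
/-- the kernel of reduction modulo an ideal -/
theorem mem_smul_top_of_one_tmul_eq_zero {S : Type u} [CommRing S] [Algebra R S] {K : Ideal R}
    (hs : Function.Surjective (algebraMap R S)) (hk : RingHom.ker (algebraMap R S) = K) {m : N}
    (hm : (1 : S) ⊗ₜ[R] m = 0) : m ∈ (K • ⊤ : Submodule R N) := by
  have hex : Function.Exact (K.subtype : K →ₗ[R] R) (Algebra.linearMap R S) := fun r => by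
    rw [show Algebra.linearMap R S r = algebraMap R S r from rfl, ← RingHom.mem_ker, hk]
    exact ⟨fun h => ⟨⟨r, h⟩, rfl⟩, fun ⟨⟨a, ha⟩, e⟩ => e ▸ ha⟩
  obtain ⟨t, ht⟩ := (rTensor_exact N hex hs ((1 : R) ⊗ₜ[R] m)).1
    (by rw [LinearMap.rTensor_tmul, show Algebra.linearMap R S 1 = 1 from map_one (algebraMap R S)]; exact hm)
  have hmt : TensorProduct.lid R N (K.subtype.rTensor N t) = m := by rw [ht, TensorProduct.lid_tmul, one_smul]
  rw [← hmt]
  clear hmt ht
  induction t using TensorProduct.induction_on with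
  | zero => rw [map_zero, map_zero]; exact zero_mem _
  | tmul a x =>
    rw [LinearMap.rTensor_tmul, TensorProduct.lid_tmul]
    exact Submodule.smul_mem_smul a.2 Submodule.mem_top
  | add x y hx hy => rw [map_add, map_add]; exact add_mem hx hy

/-- free of rank one modulo all powers of an ideal implies free of rank one -/
theorem exists_equiv (J : Ideal R) (hJ : J ≤ IsLocalRing.maximalIdeal R)
    (h : ∀ n : ℕ, ∃ (S : Type u) (_ : CommRing S) (_ : Algebra R S),
      Function.Surjective (algebraMap R S) ∧ RingHom.ker (algebraMap R S) = J ^ (n + 1) ∧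
        Nonempty (S ⊗[R] N ≃ₗ[S] S)) :
    Nonempty (N ≃ₗ[R] R) := by
  classical
  obtain ⟨e, he⟩ : ∃ e : N, ⊤ ≤ Submodule.span R {e} := by
    obtain ⟨S, _, _, hs, hk, ⟨w⟩⟩ := h 0
    have hsurj : Function.Surjective fun m : N => (1 : S) ⊗ₜ[R] m := fun t => by
      induction t using TensorProduct.induction_on with
      | zero => exact ⟨0, TensorProduct.tmul_zero _ _⟩
      | tmul s m =>
        obtain ⟨r, rfl⟩ := hs s
        refine ⟨r • m, ?_⟩
        change (1 : S) ⊗ₜ[R] (r • m) = _
        rw [TensorProduct.tmul_smul, TensorProduct.smul_tmul', Algebra.smul_def, mul_one]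
      | add a b ha hb =>
        obtain ⟨x, hx⟩ := ha
        obtain ⟨y, hy⟩ := hb
        exact ⟨x + y, (TensorProduct.tmul_add _ _ _).trans (congrArg₂ (· + ·) hx hy)⟩
    obtain ⟨e, he⟩ := hsurj (w.symm 1)
    refine ⟨e, ?_⟩
    refine Submodule.le_of_le_smul_of_le_jacobson_bot (Module.Finite.fg_top)
      (show J ^ (0 + 1) ≤ Ideal.jacobson ⊥ by
        rw [Nat.zero_add, pow_one, IsLocalRing.jacobson_eq_maximalIdeal _ bot_ne_top]; exact hJ) fun m _ => ?_
    obtain ⟨r, hr⟩ := hs (w ((1 : S) ⊗ₜ m))
    have h1 : (1 : S) ⊗ₜ[R] (m - r • e) = 0 := by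
      rw [TensorProduct.tmul_sub, TensorProduct.tmul_smul, sub_eq_zero]
      apply w.injective
      rw [show r • ((1 : S) ⊗ₜ[R] e) = algebraMap R S r • ((1 : S) ⊗ₜ[R] e) from (algebraMap_smul S r _).symm,
        map_smul, show w ((1 : S) ⊗ₜ[R] e) = 1 by rw [show (1 : S) ⊗ₜ[R] e = w.symm 1 from he, w.apply_symm_apply],
        smul_eq_mul, mul_one, hr]
    have h2 := mem_smul_top_of_one_tmul_eq_zero hs hk h1
    rw [Submodule.mem_sup]
    exact ⟨r • e, Submodule.smul_mem _ _ (Submodule.mem_span_singleton_self e), m - r • e, h2, add_sub_cancel _ _⟩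
  refine ⟨(LinearEquiv.ofBijective (LinearMap.toSpanSingleton R N e) ⟨?_, fun m => ?_⟩).symm⟩
  · rw [injective_iff_map_eq_zero]
    intro r hr
    rw [LinearMap.toSpanSingleton_apply] at hr
    have hall : ∀ n, r ∈ J ^ (n + 1) := fun n => by
      obtain ⟨S, _, _, hs, hk, ⟨w⟩⟩ := h n
      rw [← hk, RingHom.mem_ker]
      let g : S →ₗ[S] S := w.toLinearMap ∘ₗ LinearMap.toSpanSingleton S _ ((1 : S) ⊗ₜ[R] e)
      have hg : Function.Surjective g := w.surjective.comp fun t => by
        induction t using TensorProduct.induction_on with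
        | zero => exact ⟨0, zero_smul _ _⟩
        | tmul s m =>
          obtain ⟨c, rfl⟩ := Submodule.mem_span_singleton.1 (he (Submodule.mem_top (x := m)))
          refine ⟨c • s, ?_⟩
          rw [LinearMap.toSpanSingleton_apply, TensorProduct.smul_tmul', smul_eq_mul, mul_one,
            TensorProduct.smul_tmul]
        | add a b ha hb =>
          obtain ⟨x, hx⟩ := ha
          obtain ⟨y, hy⟩ := hb
          exact ⟨x + y, by rw [map_add, hx, hy]⟩
      refine OrzechProperty.injective_of_surjective_endomorphism g hg ?_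
      change w (algebraMap R S r • ((1 : S) ⊗ₜ[R] e)) = w ((0 : S) • ((1 : S) ⊗ₜ[R] e))
      rw [zero_smul, algebraMap_smul, ← TensorProduct.tmul_smul, hr, TensorProduct.tmul_zero]
    have hbot := Ideal.iInf_pow_eq_bot_of_isLocalRing J (ne_top_of_le_ne_top (IsLocalRing.maximalIdeal.isMaximal R).ne_top hJ)
    rw [← Ideal.mem_bot, ← hbot, Ideal.mem_iInf]
    intro n
    exact Ideal.pow_le_pow_right (Nat.le_succ n) (hall n)
  · obtain ⟨c, hc⟩ := Submodule.mem_span_singleton.1 (he (Submodule.mem_top (x := m)))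
    exact ⟨c, hc⟩

end Groth.Agent.ThickInv
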